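import Groth.Agent.ResProp.EF.K902.Alpha
import Groth.Agent.ResProp.EF.K785.Dpw
import Groth.Agent.ResProp.EF.K350.ShiftData
import Mathlib.LinearAlgebra.DirectSum.Finsupp

/-!
# A one step extension has shift data
-/

set_option autoImplicit false

universe u

open TensorProduct

noncomputable section

namespace Groth.Agent.ResProp.EF.K902

open Grp

variable {k : Type u} [CommRing k]

namespace DP

variable {r : ℕ} (P : DP k r)

theorem add_eq_single {a b : Fin r →₀ ℕ} {i : Fin r} (ha : a ≠ 0) (hb : b ≠ 0) :
    a + b ≠ Finsupp.single i 1 := by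
  intro h
  have h1 : ∀ c d : Fin r →₀ ℕ, c ≠ 0 → c + d = Finsupp.single i 1 → c i ≠ 0 := by
    intro c d hc hcd hci
    obtain ⟨j, hj⟩ : ∃ j, c j ≠ 0 := by
      by_contra hn
      push Not at hn
      exact hc (Finsupp.ext hn)
    have hji : j ≠ i := by rintro rfl; exact hj hci
    have := DFunLike.congr_fun hcd j
    rw [Finsupp.add_apply, Finsupp.single_eq_of_ne hji] at this
    omega
  have h2 := h1 a b ha h
  have h3 := h1 b a hb (by rw [add_comm]; exact h)
  have h4 := DFunLike.congr_fun h i
  rw [Finsupp.add_apply, Finsupp.single_eq_same] at h4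
  omega

theorem coord_mul (hk : TF k) (i : Fin r) (f g : P.D) :
    P.γ.coord (Finsupp.single i 1) (f * g) =
      P.ε hk f * P.γ.coord (Finsupp.single i 1) g + P.ε hk g * P.γ.coord (Finsupp.single i 1) f := by
  classical
  have key : (LinearMap.mul k P.D).compr₂ (P.γ.coord (Finsupp.single i 1)) =
      (LinearMap.mul k k).compl₁₂ (P.ε hk).toLinearMap (P.γ.coord (Finsupp.single i 1)) +
      ((LinearMap.mul k k).compl₁₂ (P.ε hk).toLinearMap (P.γ.coord (Finsupp.single i 1))).flip := by
    refine P.γ.ext fun a => P.γ.ext fun b => ?_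
    have hc : ∀ a, P.γ.coord (Finsupp.single i 1) (P.γ a) = if a = Finsupp.single i 1 then 1 else 0 := by
      intro a
      simp [Finsupp.single_apply]
    have h0 : (0 : Fin r →₀ ℕ) ≠ Finsupp.single i 1 := by
      intro h
      have := DFunLike.congr_fun h i
      simp at this
    change P.γ.coord (Finsupp.single i 1) (P.γ a * P.γ b) =
      P.ε hk (P.γ a) * P.γ.coord (Finsupp.single i 1) (P.γ b) +
      P.ε hk (P.γ b) * P.γ.coord (Finsupp.single i 1) (P.γ a)
    rw [P.ε_γ, P.ε_γ, hc, hc]
    by_cases ha : a = 0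
    · subst ha
      rw [P.γ_zero, one_mul, hc]
      simp [h0]
    · by_cases hb : b = 0
      · subst hb
        rw [P.γ_zero, mul_one, hc]
        simp [h0]
      · rw [if_neg ha, if_neg hb, zero_mul, zero_mul, add_zero]
        refine hk.cancel (n := fac a * fac b) (mul_ne_zero (fac_ne_zero a) (fac_ne_zero b)) ?_
        have h1 := congrArg (P.γ.coord (Finsupp.single i 1)) (P.γ_mul a b)
        rw [← nsmul_eq_mul, map_nsmul, ← nsmul_eq_mul, map_nsmul, hc, if_neg (add_eq_single ha hb),
          nsmul_eq_mul, smul_zero] at h1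
        rw [h1, mul_zero]
  exact congrArg (fun F => F f g) key

/-- `(1 ⊗ coord_i) Δ` is the shift -/
theorem coord_shift (hk : TF k) (i : Fin r) (d : P.D) (a : Fin r →₀ ℕ) :
    P.γ.repr ((TensorProduct.rid k P.D) ((P.γ.coord (Finsupp.single i 1)).lTensor P.D (P.Δ hk d))) a =
      P.γ.repr d (a + Finsupp.single i 1) := by
  classical
  have key : (Finsupp.lapply a ∘ₗ P.γ.repr.toLinearMap ∘ₗ (TensorProduct.rid k P.D).toLinearMap ∘ₗ
      (P.γ.coord (Finsupp.single i 1)).lTensor P.D ∘ₗ (P.Δ hk).toLinearMap : P.D →ₗ[k] k) =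
      Finsupp.lapply (a + Finsupp.single i 1) ∘ₗ P.γ.repr.toLinearMap := by
    refine P.γ.ext fun b => ?_
    change P.γ.repr ((TensorProduct.rid k P.D) ((P.γ.coord (Finsupp.single i 1)).lTensor P.D
      (P.Δ hk (P.γ b)))) a = P.γ.repr (P.γ b) (a + Finsupp.single i 1)
    rw [P.comul_γ, map_sum, map_sum, map_sum, Finsupp.finset_sum_apply, P.γ.repr_self]
    have e : ∀ x ∈ anti b, (P.γ.repr ((TensorProduct.rid k P.D) ((P.γ.coord (Finsupp.single i 1)).lTensor P.D
        (P.γ x.1 ⊗ₜ[k] P.γ x.2)))) a = if x = (a, Finsupp.single i 1) then 1 else 0 := by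
      rintro ⟨c, d⟩ _
      rw [LinearMap.lTensor_tmul, TensorProduct.rid_tmul, map_smul, P.γ.repr_self]
      simp only [Finsupp.smul_apply, smul_eq_mul, Finsupp.single_apply, Module.Basis.coord_apply,
        P.γ.repr_self, Prod.mk.injEq, mul_ite, mul_one, mul_zero]
      by_cases h1 : c = a <;> by_cases h2 : d = Finsupp.single i 1 <;> simp [h1, h2]
    rw [Finset.sum_congr rfl e, Finset.sum_ite_eq', Finsupp.single_apply]
    simp [eq_comm]
  exact congrArg (fun F => F d) key

end DP

section

variable (hk : TF k) {E : Gp k} (S : OneStep E) {r : ℕ} (b : Module.Basis (Fin r) k S.V.V) (P : DP k r)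

theorem ε_π (f : S.E'.O) : P.ε hk (π hk S b P f) = Coalgebra.counit (R := k) f := by
  have : (P.ε hk).comp (π hk S b P) = Bialgebra.counitAlgHom k S.E'.O := by
    refine hom_ext' S b hk (fun a => ?_) fun i => ?_
    · rw [AlgHom.comp_apply, π_ι]
      simp
    · rw [AlgHom.comp_apply, π_tx]
      simp
  exact DFunLike.congr_fun this f

/-- `A ⊗ D ≃ (ℕ^r →₀ A)` -/
def Fe (A : Type u) [AddCommGroup A] [Module k A] : A ⊗[k] P.D ≃ₗ[k] ((Fin r →₀ ℕ) →₀ A) :=
  (LinearEquiv.lTensor A P.γ.repr) ≪≫ₗ TensorProduct.finsuppScalarRight k k A (Fin r →₀ ℕ)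

theorem Fe_tmul {A : Type u} [AddCommGroup A] [Module k A] (x : A) (d : P.D) (a : Fin r →₀ ℕ) :
    Fe P A (x ⊗ₜ[k] d) a = P.γ.repr d a • x := by
  simp [Fe, TensorProduct.finsuppScalarRight_apply_tmul_apply]

/-- the shift data of a one step extension -/
def shiftData : K350.ShiftData k E.O S.E'.O S.ι where
  r := r
  lam i := (P.γ.coord (Finsupp.single i 1)) ∘ₗ (π hk S b P).toLinearMap
  lam_mul i x y := by
    simp only [LinearMap.comp_apply, AlgHom.toLinearMap_apply, map_mul]
    rw [P.coord_mul hk, ε_π, ε_π]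
  lam_ι i x := by
    simp only [LinearMap.comp_apply, AlgHom.toLinearMap_apply]
    rw [π_ι, Algebra.algebraMap_eq_smul_one, map_smul, ← P.γ_zero, Module.Basis.coord_apply, P.γ.repr_self]
    have : (0 : Fin r →₀ ℕ) ≠ Finsupp.single i 1 := by
      intro h
      have := DFunLike.congr_fun h i
      simp at this
    rw [Finsupp.single_eq_of_ne this.symm, smul_zero]
  e := (αe hk S b P).toLinearEquiv ≪≫ₗ Fe P E.O
  e_mul x f a := by
    change Fe P E.O (α hk S b P (S.ι x * f)) a = x * Fe P E.O (α hk S b P f) a
    rw [map_mul, α_ι]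
    induction α hk S b P f using TensorProduct.induction_on with
    | zero => simp
    | tmul c d =>
      rw [Algebra.TensorProduct.tmul_mul_tmul, one_mul, Fe_tmul, Fe_tmul, mul_smul_comm]
    | add c d hc hd =>
      rw [mul_add, map_add, map_add, Finsupp.add_apply, Finsupp.add_apply, hc, hd, mul_add]
  e_one := by
    change Fe P E.O (α hk S b P 1) = _
    ext a
    rw [map_one, Algebra.TensorProduct.one_def, Fe_tmul, ← P.γ_zero, P.γ.repr_self]
    classical
    rw [Finsupp.single_apply, Finsupp.single_apply]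
    split_ifs <;> simp
  e_op i f a := by
    change Fe P E.O (α hk S b P ((TensorProduct.rid k S.E'.O)
      (((P.γ.coord (Finsupp.single i 1)) ∘ₗ (π hk S b P).toLinearMap).lTensor S.E'.O
        (Coalgebra.comul (R := k) f)))) a = Fe P E.O (α hk S b P f) (a + Finsupp.single i 1)
    have e1 : ((P.γ.coord (Finsupp.single i 1)) ∘ₗ (π hk S b P).toLinearMap).lTensor S.E'.O
        (Coalgebra.comul (R := k) f) = (P.γ.coord (Finsupp.single i 1)).lTensor S.E'.O (δ hk S b P f) := by
      rw [LinearMap.lTensor_comp, LinearMap.comp_apply]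
      rfl
    have e2 : ∀ u : S.E'.O ⊗[k] P.D,
        α hk S b P ((TensorProduct.rid k S.E'.O) ((P.γ.coord (Finsupp.single i 1)).lTensor S.E'.O u)) =
        ((TensorProduct.rid k P.D).toLinearMap ∘ₗ (P.γ.coord (Finsupp.single i 1)).lTensor P.D).lTensor E.O
          ((Algebra.TensorProduct.assoc k k k E.O P.D P.D)
            (Algebra.TensorProduct.map (α hk S b P) (AlgHom.id k P.D) u)) := by
      intro u
      induction u using TensorProduct.induction_on with
      | zero => simp
      | tmul c d =>
        simp only [LinearMap.lTensor_tmul, TensorProduct.rid_tmul, map_smul, Algebra.TensorProduct.map_tmul,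
          AlgHom.id_apply]
        induction α hk S b P c using TensorProduct.induction_on with
        | zero => simp
        | tmul x y =>
          simp [Algebra.TensorProduct.assoc_tmul]
        | add x y hx hy => rw [smul_add, TensorProduct.add_tmul, map_add, map_add, hx, hy]
      | add c d hc hd => simp only [map_add, hc, hd]
    rw [e1, e2, α_comod]
    have e3 : ∀ t : E.O ⊗[k] P.D,
        Fe P E.O (((TensorProduct.rid k P.D).toLinearMap ∘ₗ
          (P.γ.coord (Finsupp.single i 1)).lTensor P.D).lTensor E.O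
          (Algebra.TensorProduct.map (AlgHom.id k E.O) (P.Δ hk) t)) a =
        Fe P E.O t (a + Finsupp.single i 1) := by
      intro t
      induction t using TensorProduct.induction_on with
      | zero => simp
      | tmul x d =>
        rw [Algebra.TensorProduct.map_tmul, LinearMap.lTensor_tmul, Fe_tmul, Fe_tmul]
        congr 1
        exact P.coord_shift hk i d a
      | add c d hc hd => simp only [map_add, Finsupp.add_apply, hc, hd]
    exact e3 _

end

/-- the divided power polynomial algebra exists -/
theorem exists_DP [IsDomain k] [CharZero k] (r : ℕ) : Nonempty (DP k r) := by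
  haveI : CharZero (FractionRing k) :=
    charZero_of_injective_algebraMap (IsFractionRing.injective k (FractionRing k))
  refine ⟨{ D := K785.Dpw k (FractionRing k) (Fin r)
            X := K785.dX k (FractionRing k)
            γ := K785.gamBasis k (FractionRing k) (Fin r)
            hγ := fun a => ?_ }⟩
  rw [K785.gamBasis_apply]
  exact K785.mfac_mul_gam a

theorem tf_of_charZero [IsDomain k] [CharZero k] : TF k := by
  intro n hn x y h
  have h' : (n : k) * x = (n : k) * y := by simpa [nsmul_eq_mul] using h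
  exact mul_left_cancel₀ (Nat.cast_ne_zero.2 hn) h'

/-- a one step extension has shift data -/
theorem stmtOneStepShift : K350.StmtOneStepShift.{u} := by
  intro p k _ hLb E S
  haveI := hLb.dom
  haveI := hLb.char0
  haveI := S.free
  haveI := S.fin
  obtain ⟨P⟩ := exists_DP (k := k) (Module.finrank k S.V.V)
  exact ⟨shiftData tf_of_charZero S (Module.finBasis k S.V.V) P⟩

end Groth.Agent.ResProp.EF.K902
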