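import Groth.Agent.ResProp.EF.Grp

/-!
# The tautological cochain of a one step extension in coordinates

`Δ x_i = ∑_j ι ρ_ij ⊗ x_j + x_i ⊗ 1 - (ι ⊗ ι) z_i`.
-/

set_option autoImplicit false

universe u

open TensorProduct

noncomputable section

namespace Groth.Agent.ResProp.EF.K902

open Grp

variable {k : Type u} [CommRing k]

section coef

variable {V A B : Type u} [AddCommGroup V] [Module k V] [CommRing A] [Algebra k A] [CommRing B] [Algebra k B]

@[simp] theorem coef1_tmul (f : V →ₗ[k] k) (v : V) (a : A) : coef1 (k := k) f (v ⊗ₜ[k] a) = f v • a := by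
  simp [coef1]

@[simp] theorem coef2_tmul (f : V →ₗ[k] k) (w : V ⊗[k] A) (a : A) :
    coef2 (k := k) f (w ⊗ₜ[k] a) = coef1 (k := k) f w ⊗ₜ[k] a := by
  simp [coef2]

theorem coef1_lTensor (f : V →ₗ[k] k) (h : A →ₗ[k] B) (y : V ⊗[k] A) :
    coef1 (k := k) f (h.lTensor V y) = h (coef1 (k := k) f y) := by
  induction y using TensorProduct.induction_on with
  | zero => simp
  | tmul v a => simp
  | add a b ha hb => simp only [map_add, ha, hb]

theorem expand {r : ℕ} (b : Module.Basis (Fin r) k V) (y : V ⊗[k] A) :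
    y = ∑ i, b i ⊗ₜ[k] coef1 (k := k) (b.coord i) y := by
  induction y using TensorProduct.induction_on with
  | zero => simp
  | tmul v a =>
    simp only [coef1_tmul, ← TensorProduct.smul_tmul, ← TensorProduct.sum_tmul]
    congr 1
    simpa using (b.sum_repr v).symm
  | add a c ha hc =>
    conv_lhs => rw [ha, hc]
    rw [← Finset.sum_add_distrib]
    refine Finset.sum_congr rfl fun i _ => ?_
    rw [map_add, TensorProduct.tmul_add]

theorem coef2_assoc (f : V →ₗ[k] k) (v : V) (t : A ⊗[k] A) :
    coef2 (k := k) f ((TensorProduct.assoc k V A A).symm (v ⊗ₜ[k] t)) = f v • t := by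
  induction t using TensorProduct.induction_on with
  | zero => simp
  | tmul a c => simp [TensorProduct.smul_tmul']
  | add a c ha hc => rw [TensorProduct.tmul_add, map_add, map_add, ha, hc, smul_add]

end coef

section d1

variable {A : Type u} [CommRing A] [Bialgebra k A] {V : Type u} [AddCommGroup V] [Module k V]
  [HopfRep.Comod k A V]

/-- coefficients of `d y`, `y` a 1-cochain -/
theorem coef2_d (f : V →ₗ[k] k) (y : V ⊗[k] A) :
    coef2 (k := k) f (Hoch.d k A V 1 y) =
      ((coef1 (k := k) f ∘ₗ (HopfRep.Comod.coact (k := k) (A := A) : V →ₗ[k] V ⊗[k] A)).rTensor A y)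
        - Coalgebra.comul (R := k) (coef1 (k := k) f y) + coef1 (k := k) f y ⊗ₜ[k] (1 : A) := by
  induction y using TensorProduct.induction_on with
  | zero => simp
  | tmul v a =>
    have e : Hoch.d k A V 1 (v ⊗ₜ[k] a) =
        (HopfRep.Comod.coact (k := k) (A := A) v - v ⊗ₜ[k] (1 : A)) ⊗ₜ[k] a -
          (TensorProduct.assoc k V A A).symm
            (v ⊗ₜ[k] (Coalgebra.comul (R := k) a - a ⊗ₜ[k] (1 : A) - (1 : A) ⊗ₜ[k] a)) := by
      rw [Hoch.d_succ, Hoch.d_zero]
      simp only [zero_add, pow_one, LinearMap.add_apply, LinearMap.rTensor_tmul, LinearMap.sub_apply,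
        LinearMap.smul_apply, LinearMap.flip_apply, TensorProduct.mk_apply, neg_smul, one_smul]
      rw [sub_eq_add_neg]
      rfl
    rw [e, map_sub, coef2_assoc]
    simp only [coef2_tmul, map_sub, coef1_tmul, LinearMap.rTensor_tmul, LinearMap.comp_apply,
      map_smul, smul_sub, TensorProduct.sub_tmul, TensorProduct.smul_tmul']
    abel
  | add a c ha hc =>
    rw [map_add, map_add, ha, hc]
    simp only [map_add, TensorProduct.add_tmul]
    abel

end d1

section taut

variable {E : Gp k} (S : OneStep E) {r : ℕ} (b : Module.Basis (Fin r) k S.V.V)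

/-- coordinates of the tautological cochain -/
def tx (i : Fin r) : S.E'.O := coef1 (k := k) (V := S.V.V) (A := S.E'.O) (b.coord i) S.x

/-- coordinates of the cocycle -/
def tz (i : Fin r) : E.O ⊗[k] E.O := coef2 (k := k) (V := S.V.V) (A := E.O) (b.coord i) S.z

/-- matrix coefficients of `V` -/
def ρm (i j : Fin r) : E.O := coef1 (k := k) (V := S.V.V) (A := E.O) (b.coord i) (S.V.co.coact (b j))

theorem isNat_tx (i : Fin r) : IsNat (tx S b i) := S.nx _

/-- the comultiplication of the tautological coordinates -/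
theorem comul_tx (i : Fin r) :
    Coalgebra.comul (R := k) (tx S b i) =
      ∑ j, S.ι (ρm S b i j) ⊗ₜ[k] tx S b j + tx S b i ⊗ₜ[k] (1 : S.E'.O)
        - TensorProduct.map (S.ι : E.O →ₗ[k] S.E'.O) (S.ι : E.O →ₗ[k] S.E'.O) (tz S b i) := by
  have h := congrArg (coef2 (k := k) (V := S.V.V) (A := S.E'.O) (b.coord i)) S.hx
  have h1 := @coef2_d k _ S.E'.O _ _ S.V.V _ _ (S.V.res S.ι).co (b.coord i) S.x
  have h2 : coef2 (k := k) (V := S.V.V) (A := S.E'.O) (b.coord i) (cres S.ι S.V 2 S.z) =
      TensorProduct.map (S.ι : E.O →ₗ[k] S.E'.O) (S.ι : E.O →ₗ[k] S.E'.O) (tz S b i) := by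
    have key : ∀ z : (S.V.V ⊗[k] E.O) ⊗[k] E.O,
        coef2 (k := k) (V := S.V.V) (A := S.E'.O) (b.coord i)
          (TensorProduct.map (TensorProduct.map LinearMap.id (S.ι : E.O →ₗ[k] S.E'.O))
            (S.ι : E.O →ₗ[k] S.E'.O) z) =
        TensorProduct.map (S.ι : E.O →ₗ[k] S.E'.O) (S.ι : E.O →ₗ[k] S.E'.O)
          (coef2 (k := k) (V := S.V.V) (A := E.O) (b.coord i) z) := by
      intro z
      induction z using TensorProduct.induction_on with
      | zero => simp
      | tmul w a =>
        induction w using TensorProduct.induction_on with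
        | zero => simp
        | tmul v c => simp
        | add c d hc hd =>
          rw [TensorProduct.add_tmul, map_add, map_add, map_add, map_add, hc, hd]
      | add c d hc hd => rw [map_add, map_add, map_add, map_add, hc, hd]
    exact key S.z
  have h3 : ((coef1 (k := k) (b.coord i) ∘ₗ ((S.V.res S.ι).co.coact : S.V.V →ₗ[k] S.V.V ⊗[k] S.E'.O)).rTensor
      S.E'.O (S.x : S.V.V ⊗[k] S.E'.O)) = ∑ j, S.ι (ρm S b i j) ⊗ₜ[k] tx S b j := by
    conv_lhs => rw [expand b (S.x : S.V.V ⊗[k] S.E'.O)]
    rw [map_sum]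
    refine Finset.sum_congr rfl fun j _ => ?_
    rw [LinearMap.rTensor_tmul, LinearMap.comp_apply]
    congr 1
    exact coef1_lTensor (b.coord i) (S.ι : E.O →ₗ[k] S.E'.O) (S.V.co.coact (b j))
  have h4 : ∀ {G : Type u} [AddCommGroup G] (a b c d e : G), a = e → a = b - c + d → c = b + d - e := by
    intro G _ a b c d e h1 h2
    rw [← h1, h2]; abel
  refine h4 _ _ _ _ _ (h.trans h2) ?_
  rw [← h3]
  exact h1

end taut

end Groth.Agent.ResProp.EF.K902
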