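import Groth.Agent.ResProp.EF.K902.DPB
import Groth.Agent.ResProp.EF.K902.Taut

/-!
# `O(E⁺) = O(E) ⊗ D` as comodule over `D = O(V^♯)`
-/

set_option autoImplicit false

universe u

open TensorProduct

noncomputable section

namespace Groth.Agent.ResProp.EF.K902

open Grp

variable {k : Type u} [CommRing k]

section univ

variable {E : Gp k} (S : OneStep E) {r : ℕ} (b : Module.Basis (Fin r) k S.V.V)

theorem hom_exists {R : Type u} [CommRing R] [Algebra k R] (hR : TF R) (g : E.O →ₐ[k] R)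
    (y : Fin r → R) (hy : ∀ i, IsNat (y i)) :
    ∃ h : S.E'.O →ₐ[k] R, (∀ a, h (S.ι a) = g a) ∧ ∀ i, h (tx S b i) = y i := by
  have hN : ∀ f : S.V.V →ₗ[k] k, IsNat (coef1 (k := k) f (∑ i, b i ⊗ₜ[k] y i)) := by
    intro f
    rw [map_sum]
    refine isNat_sum _ _ fun i _ => ?_
    rw [coef1_tmul, Algebra.smul_def]
    exact isNat_mul_left (hy i) _
  obtain ⟨h, ⟨h1, h2⟩, -⟩ := S.univ R hR g (∑ i, b i ⊗ₜ[k] y i) hN
  refine ⟨h, fun a => DFunLike.congr_fun h1 a, fun i => ?_⟩
  have h3 : h (tx S b i) = coef1 (k := k) (b.coord i) (h.toLinearMap.lTensor S.V.V S.x) :=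
    (coef1_lTensor (b.coord i) h.toLinearMap S.x).symm
  rw [h3, h2, map_sum, Finset.sum_eq_single i]
  · simp
  · intro j _ hj
    simp [coef1_tmul, Finsupp.single_apply, hj]
  · simp

theorem hom_ext' {R : Type u} [CommRing R] [Algebra k R] (hR : TF R) {f g : S.E'.O →ₐ[k] R}
    (h1 : ∀ a, f (S.ι a) = g (S.ι a)) (h2 : ∀ i, f (tx S b i) = g (tx S b i)) : f = g := by
  have hN : ∀ φ : S.V.V →ₗ[k] k, IsNat (coef1 (k := k) φ (f.toLinearMap.lTensor S.V.V S.x)) := by
    intro φ
    rw [coef1_lTensor]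
    exact isNat_map (f : S.E'.O →+* R) (S.nx φ)
  refine (S.univ R hR (f.comp (S.ι : E.O →ₐ[k] S.E'.O)) (f.toLinearMap.lTensor S.V.V S.x) hN).unique
    ⟨rfl, rfl⟩ ⟨?_, ?_⟩
  · ext a
    exact (h1 a).symm
  · have e : ∀ h : S.E'.O →ₐ[k] R, h.toLinearMap.lTensor S.V.V S.x = ∑ i, b i ⊗ₜ[k] h (tx S b i) := by
      intro h
      conv_lhs => rw [expand b (S.x : S.V.V ⊗[k] S.E'.O)]
      rw [map_sum]
      rfl
    rw [e, e]
    exact Finset.sum_congr rfl fun i _ => by rw [h2]

theorem tf_E' (hk : TF k) : TF S.E'.O := TF.of_free hk _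

theorem tf_E (hk : TF k) : TF E.O := TF.of_free hk _

theorem counit_ι (a : E.O) : Coalgebra.counit (R := k) (S.ι a) = Coalgebra.counit (R := k) a := by
  simp

theorem comul_ι (a : E.O) : Coalgebra.comul (R := k) (S.ι a) =
    TensorProduct.map (S.ι : E.O →ₗ[k] S.E'.O) (S.ι : E.O →ₗ[k] S.E'.O) (Coalgebra.comul (R := k) a) :=
  (CoalgHomClass.map_comp_comul_apply S.ι a).symm

end univ

section mat

variable {E : Gp k} (S : OneStep E) {r : ℕ} (b : Module.Basis (Fin r) k S.V.V)

theorem coact_b (j : Fin r) : S.V.co.coact (b j) = ∑ i, b i ⊗ₜ[k] ρm S b i j :=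
  expand b _

theorem counit_ρm (i j : Fin r) : Coalgebra.counit (R := k) (ρm S b i j) = if i = j then 1 else 0 := by
  have h := LinearMap.congr_fun S.V.co.counit_comp (b j)
  have h1 := congrArg (coef1 (k := k) (A := k) (b.coord i)) h
  rw [LinearMap.comp_apply, coef1_lTensor] at h1
  refine h1.trans ?_
  simp [coef1_tmul, Finsupp.single_apply, eq_comm]

theorem comul_ρm (i j : Fin r) : Coalgebra.comul (R := k) (ρm S b i j) =
    ∑ l, ρm S b i l ⊗ₜ[k] ρm S b l j := by
  have h := LinearMap.congr_fun S.V.co.coassoc (b j)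
  simp only [LinearMap.comp_apply, LinearEquiv.coe_coe] at h
  have h1 := congrArg (coef1 (k := k) (A := E.O ⊗[k] E.O) (b.coord i)) h
  rw [coef1_lTensor] at h1
  refine h1.symm.trans ?_
  rw [coact_b S b j, map_sum, map_sum, map_sum]
  refine Finset.sum_congr rfl fun l _ => ?_
  rw [LinearMap.rTensor_tmul, coact_b S b l, TensorProduct.sum_tmul, map_sum, map_sum,
    Finset.sum_eq_single i]
  · rw [TensorProduct.assoc_tmul, coef1_tmul]
    simp
  · intro m _ hm
    rw [TensorProduct.assoc_tmul, coef1_tmul]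
    simp [Finsupp.single_apply, hm]
  · simp

/-- `∑_l S(ρ_il) ρ_lj = δ_ij` -/
theorem antipode_mul (i j : Fin r) :
    ∑ l, HopfAlgebra.antipode k (ρm S b i l) * ρm S b l j = if i = j then 1 else 0 := by
  have h := HopfAlgebra.mul_antipode_rTensor_comul_apply (R := k) (ρm S b i j)
  rw [comul_ρm, map_sum, map_sum, counit_ρm] at h
  simp only [LinearMap.rTensor_tmul, LinearMap.mul'_apply] at h
  rw [h]
  split_ifs <;> simp

theorem mul_antipode (i j : Fin r) :
    ∑ l, ρm S b i l * HopfAlgebra.antipode k (ρm S b l j) = if i = j then 1 else 0 := by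
  have h := HopfAlgebra.mul_antipode_lTensor_comul_apply (R := k) (ρm S b i j)
  rw [comul_ρm, map_sum, map_sum, counit_ρm] at h
  simp only [LinearMap.lTensor_tmul, LinearMap.mul'_apply] at h
  rw [h]
  split_ifs <;> simp

end mat

section alpha

variable (hk : TF k) {E : Gp k} (S : OneStep E) {r : ℕ} (b : Module.Basis (Fin r) k S.V.V) (P : DP k r)

include hk in
theorem exists_π : ∃ h : S.E'.O →ₐ[k] P.D,
    (∀ a, h (S.ι a) = algebraMap k P.D (Coalgebra.counit (R := k) a)) ∧
    ∀ i, h (tx S b i) = P.X i + algebraMap k P.D (Coalgebra.counit (R := k) (tx S b i)) :=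
  hom_exists S b (P.tf hk) ((Algebra.ofId k P.D).comp (Bialgebra.counitAlgHom k E.O)) _ fun i =>
    isNat_add (P.isNat_X i) (isNat_map ((algebraMap k P.D).comp (Bialgebra.counitAlgHom k S.E'.O).toRingHom)
      (isNat_tx S b i))

/-- the restriction `O(E⁺) → O(V^♯)` -/
def π : S.E'.O →ₐ[k] P.D := (exists_π hk S b P).choose

theorem π_ι (a : E.O) : π hk S b P (S.ι a) = algebraMap k P.D (Coalgebra.counit (R := k) a) :=
  (exists_π hk S b P).choose_spec.1 a

theorem π_tx (i : Fin r) :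
    π hk S b P (tx S b i) = P.X i + algebraMap k P.D (Coalgebra.counit (R := k) (tx S b i)) :=
  (exists_π hk S b P).choose_spec.2 i

/-- `(1 ⊗ π) Δ` -/
def δ : S.E'.O →ₐ[k] S.E'.O ⊗[k] P.D :=
  (Algebra.TensorProduct.map (AlgHom.id k S.E'.O) (π hk S b P)).comp (Bialgebra.comulAlgHom k S.E'.O)

theorem δ_apply (a : S.E'.O) : δ hk S b P a =
    Algebra.TensorProduct.map (AlgHom.id k S.E'.O) (π hk S b P) (Coalgebra.comul (R := k) a) := rfl

theorem δ_ι (a : E.O) : δ hk S b P (S.ι a) = S.ι a ⊗ₜ[k] (1 : P.D) := by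
  rw [δ_apply, comul_ι]
  have key : ∀ t : E.O ⊗[k] E.O,
      Algebra.TensorProduct.map (AlgHom.id k S.E'.O) (π hk S b P)
        (TensorProduct.map (S.ι : E.O →ₗ[k] S.E'.O) (S.ι : E.O →ₗ[k] S.E'.O) t) =
      S.ι ((TensorProduct.rid k E.O) ((Coalgebra.counit (R := k) (A := E.O)).lTensor E.O t)) ⊗ₜ[k] (1 : P.D) := by
    intro t
    induction t using TensorProduct.induction_on with
    | zero => simp
    | tmul c d =>
      rw [TensorProduct.map_tmul, Algebra.TensorProduct.map_tmul]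
      have e1 : π hk S b P ((S.ι : E.O →ₗ[k] S.E'.O) d) = Coalgebra.counit (R := k) d • (1 : P.D) := by
        rw [← Algebra.algebraMap_eq_smul_one]
        exact π_ι hk S b P d
      rw [e1, TensorProduct.tmul_smul, TensorProduct.smul_tmul']
      simp
    | add c d hc hd => rw [map_add, map_add, hc, hd]; simp only [map_add, TensorProduct.add_tmul]
  rw [key, Coalgebra.lTensor_counit_comul]
  simp

theorem δ_tx (i : Fin r) : δ hk S b P (tx S b i) =
    tx S b i ⊗ₜ[k] (1 : P.D) + ∑ j, S.ι (ρm S b i j) ⊗ₜ[k] P.X j := by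
  -- apply `1 ⊗ ε` to `comul_tx`
  have h1 := congrArg (Algebra.TensorProduct.map (AlgHom.id k S.E'.O) (Bialgebra.counitAlgHom k S.E'.O))
    (comul_tx S b i)
  have h1' : Algebra.TensorProduct.map (AlgHom.id k S.E'.O) (Bialgebra.counitAlgHom k S.E'.O)
      (Coalgebra.comul (R := k) (tx S b i)) = tx S b i ⊗ₜ[k] (1 : k) :=
    Coalgebra.lTensor_counit_comul (R := k) (tx S b i)
  rw [h1'] at h1
  have h2 := congrArg (Algebra.TensorProduct.map (AlgHom.id k S.E'.O) (Algebra.ofId k P.D)) h1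
  have h3 := congrArg (Algebra.TensorProduct.map (AlgHom.id k S.E'.O) (π hk S b P)) (comul_tx S b i)
  have key : ∀ t : E.O ⊗[k] E.O,
      Algebra.TensorProduct.map (AlgHom.id k S.E'.O) (π hk S b P)
        (TensorProduct.map (S.ι : E.O →ₗ[k] S.E'.O) (S.ι : E.O →ₗ[k] S.E'.O) t) =
      Algebra.TensorProduct.map (AlgHom.id k S.E'.O) (Algebra.ofId k P.D)
        (Algebra.TensorProduct.map (AlgHom.id k S.E'.O) (Bialgebra.counitAlgHom k S.E'.O)
          (TensorProduct.map (S.ι : E.O →ₗ[k] S.E'.O) (S.ι : E.O →ₗ[k] S.E'.O) t)) := by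
    intro t
    induction t using TensorProduct.induction_on with
    | zero => simp
    | tmul c d =>
      rw [TensorProduct.map_tmul, Algebra.TensorProduct.map_tmul, Algebra.TensorProduct.map_tmul,
        Algebra.TensorProduct.map_tmul]
      congr 1
      refine (π_ι hk S b P d).trans ?_
      rw [← counit_ι S d]
      rfl
    | add c d hc hd => simp only [map_add, hc, hd]
  change δ hk S b P (tx S b i) = _ at h3
  rw [h3]
  rw [map_sub, map_add, map_sum, map_sub, map_add, map_sum] at h2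
  rw [map_sub, map_add, map_sum, key]
  simp only [Algebra.TensorProduct.map_tmul, AlgHom.id_apply, map_one, Bialgebra.counitAlgHom_apply] at h2 ⊢
  have h5 : ∀ j, S.ι (ρm S b i j) ⊗ₜ[k] π hk S b P (tx S b j) =
      S.ι (ρm S b i j) ⊗ₜ[k] P.X j +
        S.ι (ρm S b i j) ⊗ₜ[k] (Algebra.ofId k P.D) (Coalgebra.counit (R := k) (tx S b j)) := by
    intro j
    rw [π_tx, TensorProduct.tmul_add]
    rfl
  simp only [h5, Finset.sum_add_distrib]
  have h6 : ∀ {G : Type u} [AddCommGroup G] (x s t z : G), x = t + x - z → s + t + x - z = x + s := by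
    intro G _ x s t z h
    have h' : x + z = x + t := (eq_sub_iff_add_eq.1 h).trans (add_comm t x)
    have : z = t := add_left_cancel h'
    subst this
    abel
  exact h6 _ _ _ _ h2

include hk in
/-- the section `E → E⁺` with `x = 0` -/
theorem exists_s : ∃ h : S.E'.O →ₐ[k] E.O, (∀ a, h (S.ι a) = a) ∧ ∀ i, h (tx S b i) = 0 :=
  hom_exists S b (tf_E hk) (AlgHom.id k E.O) (fun _ => 0) fun _ => isNat_zero

/-- the section `E → E⁺` with `x = 0` -/
def s : S.E'.O →ₐ[k] E.O := (exists_s hk S b).choose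

theorem s_ι (a : E.O) : s hk S b (S.ι a) = a := (exists_s hk S b).choose_spec.1 a

theorem s_tx (i : Fin r) : s hk S b (tx S b i) = 0 := (exists_s hk S b).choose_spec.2 i

/-- `O(E⁺) → O(E) ⊗ D`, `(g, v) ↦ s(g) v` on points -/
def α : S.E'.O →ₐ[k] E.O ⊗[k] P.D :=
  (Algebra.TensorProduct.map (s hk S b) (AlgHom.id k P.D)).comp (δ hk S b P)

theorem α_ι (a : E.O) : α hk S b P (S.ι a) = a ⊗ₜ[k] (1 : P.D) := by
  change Algebra.TensorProduct.map (s hk S b) (AlgHom.id k P.D) (δ hk S b P (S.ι a)) = _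
  rw [δ_ι, Algebra.TensorProduct.map_tmul, s_ι]
  rfl

theorem α_tx (i : Fin r) : α hk S b P (tx S b i) = ∑ j, ρm S b i j ⊗ₜ[k] P.X j := by
  change Algebra.TensorProduct.map (s hk S b) (AlgHom.id k P.D) (δ hk S b P (tx S b i)) = _
  rw [δ_tx, map_add, map_sum, Algebra.TensorProduct.map_tmul, s_tx]
  simp only [Algebra.TensorProduct.map_tmul, s_ι, AlgHom.id_apply, TensorProduct.zero_tmul, zero_add]

/-- untwisted coordinates -/
def ty (j : Fin r) : S.E'.O := ∑ i, S.ι (HopfAlgebra.antipode k (ρm S b j i)) * tx S b i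

theorem isNat_ty (j : Fin r) : IsNat (ty S b j) :=
  isNat_sum _ _ fun _ _ => isNat_mul_left (isNat_tx S b _) _

theorem α_ty (j : Fin r) : α hk S b P (ty S b j) = (1 : E.O) ⊗ₜ[k] P.X j := by
  unfold ty
  simp only [map_sum, map_mul, α_ι, α_tx, Finset.mul_sum, Algebra.TensorProduct.tmul_mul_tmul, one_mul]
  rw [Finset.sum_comm]
  simp only [← TensorProduct.sum_tmul, antipode_mul]
  rw [Finset.sum_eq_single j]
  · simp
  · intro l _ hl
    simp [hl.symm]
  · simp

include hk in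
theorem exists_ψ : ∃ h : P.D →ₐ[k] S.E'.O, ∀ i, h (P.X i) = ty S b i :=
  P.exists_hom (tf_E' S hk) _ (isNat_ty S b)

/-- the inverse of `α` -/
def β : E.O ⊗[k] P.D →ₐ[k] S.E'.O :=
  Algebra.TensorProduct.lift (S.ι : E.O →ₐ[k] S.E'.O) (exists_ψ hk S b P).choose fun _ _ => Commute.all _ _

theorem β_left (a : E.O) : β hk S b P (a ⊗ₜ[k] (1 : P.D)) = S.ι a := by
  simp [β]

theorem β_right (i : Fin r) : β hk S b P ((1 : E.O) ⊗ₜ[k] P.X i) = ty S b i := by
  have := (exists_ψ hk S b P).choose_spec i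
  simp [β, this]

theorem β_mul (a : E.O) (d : P.D) : β hk S b P (a ⊗ₜ[k] d) = S.ι a * β hk S b P ((1 : E.O) ⊗ₜ[k] d) := by
  rw [← β_left hk S b P a, ← map_mul, Algebra.TensorProduct.tmul_mul_tmul, mul_one, one_mul]

theorem βα (a : S.E'.O) : β hk S b P (α hk S b P a) = a := by
  have : (β hk S b P).comp (α hk S b P) = AlgHom.id k S.E'.O := by
    refine hom_ext' S b (tf_E' S hk) (fun a => ?_) fun i => ?_
    · rw [AlgHom.comp_apply, α_ι, β_left]
      rfl
    · rw [AlgHom.comp_apply, α_tx, map_sum]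
      have e : ∀ j, β hk S b P (ρm S b i j ⊗ₜ[k] P.X j) =
          ∑ l, S.ι (ρm S b i j * HopfAlgebra.antipode k (ρm S b j l)) * tx S b l := by
        intro j
        rw [β_mul hk S b P, β_right, ty, Finset.mul_sum]
        refine Finset.sum_congr rfl fun l _ => ?_
        rw [map_mul, mul_assoc]
      rw [Finset.sum_congr rfl fun j _ => e j, Finset.sum_comm]
      have e2 : ∀ l, ∑ j, S.ι (ρm S b i j * HopfAlgebra.antipode k (ρm S b j l)) * tx S b l =
          S.ι (if i = l then 1 else 0) * tx S b l := by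
        intro l
        rw [← Finset.sum_mul, ← map_sum, mul_antipode]
      rw [Finset.sum_congr rfl fun l _ => e2 l, Finset.sum_eq_single i]
      · simp
      · intro l _ hl
        simp [hl.symm]
      · simp
  exact DFunLike.congr_fun this a

theorem αβ (t : E.O ⊗[k] P.D) : α hk S b P (β hk S b P t) = t := by
  have : (α hk S b P).comp (β hk S b P) = AlgHom.id k (E.O ⊗[k] P.D) := by
    refine Algebra.TensorProduct.ext ?_ ?_
    · ext a
      change α hk S b P (β hk S b P (a ⊗ₜ[k] 1)) = _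
      rw [β_left, α_ι]
      rfl
    · refine P.hom_ext (TF.of_free hk _) fun i => ?_
      change α hk S b P (β hk S b P (1 ⊗ₜ[k] P.X i)) = _
      rw [β_right, α_ty]
      rfl
  exact DFunLike.congr_fun this t

/-- `O(E⁺) ≃ O(E) ⊗ D` -/
def αe : S.E'.O ≃ₐ[k] E.O ⊗[k] P.D :=
  AlgEquiv.ofAlgHom (α hk S b P) (β hk S b P) (AlgHom.ext (αβ hk S b P)) (AlgHom.ext (βα hk S b P))

@[simp] theorem αe_apply (a : S.E'.O) : αe hk S b P a = α hk S b P a := rfl

/-- `α` is a map of `D`-comodules -/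
theorem α_comod (a : S.E'.O) :
    (Algebra.TensorProduct.assoc k k k E.O P.D P.D)
      (Algebra.TensorProduct.map (α hk S b P) (AlgHom.id k P.D) (δ hk S b P a)) =
    Algebra.TensorProduct.map (AlgHom.id k E.O) (P.Δ hk) (α hk S b P a) := by
  have : ((Algebra.TensorProduct.assoc k k k E.O P.D P.D).toAlgHom.comp
      (Algebra.TensorProduct.map (α hk S b P) (AlgHom.id k P.D))).comp (δ hk S b P) =
      (Algebra.TensorProduct.map (AlgHom.id k E.O) (P.Δ hk)).comp (α hk S b P) := by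
    refine hom_ext' S b (TF.of_free hk _) (fun a => ?_) fun i => ?_
    · simp [δ_ι, α_ι, Algebra.TensorProduct.one_def]
    · simp [δ_tx, α_tx, α_ι, TensorProduct.tmul_add, TensorProduct.sum_tmul, TensorProduct.add_tmul,
        Finset.sum_add_distrib, Algebra.TensorProduct.one_def]
  exact DFunLike.congr_fun this a

end alpha

end Groth.Agent.ResProp.EF.K902
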