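import Groth.Agent.ResProp.EF.K902.Shift
import Groth.Agent.ResProp.EF.K671.Iface
import Groth.Agent.ResProp.EF.K140.G6b

/-!
# `ShiftData` gives `StepData`; node B1 of G6b
-/

set_option autoImplicit false

universe u

open TensorProduct

noncomputable section

namespace Groth.Agent.ResProp.EF.K902

open Grp

section gen

variable {R : Type u} [CommRing R] {B B' : Type u} [CommRing B] [HopfAlgebra R B] [CommRing B'] [HopfAlgebra R B']
  {ι : B →ₐc[R] B'}

theorem comul_opR (lam : B' →ₗ[R] R) (x : B') :
    Coalgebra.comul (R := R) (K350.opR R B' lam x) =
      (K350.opR R B' lam).lTensor B' (Coalgebra.comul (R := R) x) := by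
  have h := Coalgebra.coassoc_apply (R := R) x
  have e1 : ∀ t : B' ⊗[R] B', Coalgebra.comul (R := R) ((TensorProduct.rid R B') (lam.lTensor B' t)) =
      ((TensorProduct.rid R B').toLinearMap ∘ₗ lam.lTensor B').lTensor B'
        ((TensorProduct.assoc R B' B' B') ((Coalgebra.comul (R := R)).rTensor B' t)) := by
    intro t
    induction t using TensorProduct.induction_on with
    | zero => simp
    | tmul c d =>
      simp only [LinearMap.lTensor_tmul, TensorProduct.rid_tmul, map_smul, LinearMap.rTensor_tmul]
      induction Coalgebra.comul (R := R) c using TensorProduct.induction_on with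
      | zero => simp
      | tmul x y => simp
      | add x y hx hy => simp only [smul_add, TensorProduct.add_tmul, map_add, hx, hy]
    | add c d hc hd => simp only [map_add, hc, hd]
  change Coalgebra.comul (R := R) ((TensorProduct.rid R B') (lam.lTensor B' (Coalgebra.comul (R := R) x))) = _
  rw [e1, h]
  change ((TensorProduct.rid R B').toLinearMap ∘ₗ lam.lTensor B').lTensor B'
    ((Coalgebra.comul (R := R)).lTensor B' (Coalgebra.comul (R := R) x)) = _
  rw [← LinearMap.comp_apply, ← LinearMap.lTensor_comp]
  rfl

/-- shift data give step data -/
def stepOfShift (T : K350.ShiftData R B B' ι) : K671.StepData R B B' where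
  ι := ι
  n := T.r
  t i := K350.opR R B' (T.lam i)
  y m := T.e.symm (Finsupp.single m 1)
  basis := by
    have h : (fun f : (Fin T.r →₀ ℕ) →₀ B => f.sum fun m a => (ι : B →ₐ[R] B') a *
        T.e.symm (Finsupp.single m 1)) = T.e.symm := by
      funext f
      apply T.e.injective
      rw [LinearEquiv.apply_symm_apply, Finsupp.sum, map_sum]
      have e1 : ∀ m a, T.e ((ι : B →ₐ[R] B') a * T.e.symm (Finsupp.single m 1)) = Finsupp.single m a := by
        intro m a
        ext m'
        have := T.e_mul a (T.e.symm (Finsupp.single m 1)) m'
        rw [LinearEquiv.apply_symm_apply] at this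
        refine this.trans ?_
        classical
        rw [Finsupp.single_apply, Finsupp.single_apply]
        split_ifs <;> simp
      rw [Finset.sum_congr rfl fun m _ => e1 m (f m)]
      exact f.sum_single
    rw [h]
    exact T.e.symm.bijective
  y_zero := by
    rw [← T.e_one, LinearEquiv.symm_apply_apply]
  t_mul i a x := by
    apply T.e.injective
    ext m
    rw [T.e_op]
    refine (T.e_mul a x _).trans ?_
    refine Eq.trans ?_ (T.e_mul a _ m).symm
    rw [T.e_op]
  t_y i m := by
    apply T.e.injective
    ext m'
    rw [T.e_op, LinearEquiv.apply_symm_apply]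
    classical
    split_ifs with h
    · rw [map_zero, Finsupp.zero_apply, Finsupp.single_apply, if_neg]
      rintro rfl
      simp at h
    · rw [LinearEquiv.apply_symm_apply, Finsupp.single_apply, Finsupp.single_apply]
      have : m = m' + Finsupp.single i 1 ↔ m - Finsupp.single i 1 = m' := by
        constructor
        · rintro rfl
          ext j; simp
        · rintro rfl
          ext j
          by_cases hj : j = i
          · subst hj
            simp only [Finsupp.add_apply, Finsupp.tsub_apply, Finsupp.single_eq_same]
            omega
          · simp only [Finsupp.add_apply, Finsupp.tsub_apply, Finsupp.single_eq_of_ne hj]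
            omega
      simp only [this]
  t_comul i x := comul_opR (T.lam i) x

end gen

/-- coordinates for every one step extension over a domain of characteristic zero (`ℤ_(p)`, `ℚ`, ...) -/
theorem coord (k : Type u) [CommRing k] [IsDomain k] [CharZero k] : K140.Coord k := by
  intro E S
  have := S.free
  have := S.fin
  obtain ⟨P⟩ := exists_DP (k := k) (Module.finrank k S.V.V)
  exact ⟨stepOfShift (shiftData tf_of_charZero S (Module.finBasis k S.V.V) P), rfl⟩

/-- node B1 -/
theorem stmtCoord : K671.StmtCoord.{u} := by
  intro p k _ hLb E S
  have := hLb.dom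
  have := hLb.char0
  exact coord k E S

end Groth.Agent.ResProp.EF.K902
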