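import Groth.Agent.ResProp.EF.Grp
import Mathlib.RingTheory.TensorProduct.Free
import Mathlib.LinearAlgebra.TensorProduct.Basis
import Mathlib.Algebra.MonoidAlgebra.Basic

/-!
# Divided power polynomial algebras by hypotheses, and their universal property on torsion free algebras

`S16912`, seam `Grp.OneStep` / `G6b` (helper902).
-/

set_option autoImplicit false

universe u

open TensorProduct

noncomputable section

namespace Groth.Agent.ResProp.EF.K902

open Grp

/-- torsion free additive groups, in the form used in `Grp.OneStep.univ` -/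
def TF (R : Type u) [AddCommGroup R] : Prop := ∀ n : ℕ, n ≠ 0 → IsSMulRegular R (n : ℕ)

theorem TF.cancel {R : Type u} [Ring R] (h : TF R) {n : ℕ} (hn : n ≠ 0) {x y : R}
    (e : (n : R) * x = (n : R) * y) : x = y := by
  refine h n hn ?_
  simpa [nsmul_eq_mul] using e

theorem TF.of_basis {k : Type u} [CommRing k] (hk : TF k) {M : Type u} [AddCommGroup M] [Module k M]
    {ι : Type*} (b : Module.Basis ι k M) : TF M := by
  intro n hn x y e
  apply b.repr.injective
  ext i
  refine hk n hn ?_
  have := congrArg (fun z => b.repr z i) e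
  simpa using this

theorem TF.of_free {k : Type u} [CommRing k] (hk : TF k) (M : Type u) [AddCommGroup M] [Module k M]
    [Module.Free k M] : TF M :=
  TF.of_basis hk (Module.Free.chooseBasis k M)

theorem isNat_map {A B : Type u} [CommRing A] [CommRing B] (f : A →+* B) {a : A} (ha : IsNat a) :
    IsNat (f a) := by
  intro n
  have := map_dvd f (ha n)
  simpa using this

theorem isNat_add {A : Type u} [CommRing A] {a b : A} (ha : IsNat a) (hb : IsNat b) : IsNat (a + b) := by
  intro n
  rw [add_pow]
  refine Finset.dvd_sum ?_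
  intro i hi
  have hin : i ≤ n := by simpa [Nat.lt_succ_iff] using hi
  obtain ⟨x, hx⟩ := ha i
  obtain ⟨y, hy⟩ := hb (n - i)
  refine ⟨x * y, ?_⟩
  have h := Nat.choose_mul_factorial_mul_factorial hin
  have h' : ((n.factorial : ℕ) : A) = (n.choose i : A) * (i.factorial : ℕ) * ((n - i).factorial : ℕ) := by
    rw [← h]; push_cast; ring
  rw [hx, hy, h']; ring

theorem isNat_zero {A : Type u} [CommRing A] : IsNat (0 : A) := by
  intro n
  rcases n with _ | n
  · simp
  · simp

theorem isNat_mul_left {A : Type u} [CommRing A] {a : A} (ha : IsNat a) (c : A) : IsNat (c * a) := by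
  intro n
  rw [mul_pow]
  exact (ha n).mul_left _

theorem isNat_sum {A : Type u} [CommRing A] {ι : Type*} (s : Finset ι) (f : ι → A)
    (h : ∀ i ∈ s, IsNat (f i)) : IsNat (∑ i ∈ s, f i) := by
  classical
  induction s using Finset.induction_on with
  | empty => simpa using isNat_zero
  | insert a s ha ih =>
    rw [Finset.sum_insert ha]
    exact isNat_add (h a (by simp)) (ih fun i hi => h i (by simp [hi]))

theorem isNat_neg {A : Type u} [CommRing A] {a : A} (ha : IsNat a) : IsNat (-a) := by
  have := isNat_mul_left ha (-1)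
  simpa using this

/-- `∏ a_i!` -/
def fac {r : ℕ} (a : Fin r →₀ ℕ) : ℕ := ∏ i, (a i).factorial

theorem fac_ne_zero {r : ℕ} (a : Fin r →₀ ℕ) : fac a ≠ 0 :=
  Finset.prod_ne_zero_iff.2 fun i _ => Nat.factorial_ne_zero _

@[simp] theorem fac_zero {r : ℕ} : fac (0 : Fin r →₀ ℕ) = 1 := by simp [fac]

theorem fac_single {r : ℕ} (j : Fin r) : fac (Finsupp.single j 1) = 1 := by
  classical
  unfold fac
  refine Finset.prod_eq_one fun i _ => ?_
  rw [Finsupp.single_apply]
  split_ifs <;> simp

/-- `∏ y_i ^ a_i` -/
def mon {r : ℕ} {B : Type*} [CommRing B] (y : Fin r → B) (a : Fin r →₀ ℕ) : B := ∏ i, y i ^ a i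

@[simp] theorem mon_zero {r : ℕ} {B : Type*} [CommRing B] (y : Fin r → B) : mon y 0 = 1 := by simp [mon]

theorem mon_add {r : ℕ} {B : Type*} [CommRing B] (y : Fin r → B) (a b : Fin r →₀ ℕ) :
    mon y (a + b) = mon y a * mon y b := by
  simp [mon, pow_add, Finset.prod_mul_distrib]

theorem mon_single {r : ℕ} {B : Type*} [CommRing B] (y : Fin r → B) (j : Fin r) :
    mon y (Finsupp.single j 1) = y j := by
  classical
  unfold mon
  rw [Finset.prod_eq_single j]
  · simp
  · intro i _ hi
    rw [Finsupp.single_eq_of_ne hi, pow_zero]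
  · simp

theorem map_mon {r : ℕ} {B C : Type*} [CommRing B] [CommRing C] (f : B →+* C) (y : Fin r → B)
    (a : Fin r →₀ ℕ) : f (mon y a) = mon (fun i => f (y i)) a := by
  simp [mon, map_prod]

theorem fac_dvd_mon {r : ℕ} {B : Type u} [CommRing B] (y : Fin r → B) (hy : ∀ i, IsNat (y i))
    (a : Fin r →₀ ℕ) : ((fac a : ℕ) : B) ∣ mon y a := by
  unfold fac mon
  push_cast
  exact Finset.prod_dvd_prod_of_dvd _ _ fun i _ => hy i (a i)

/-- A divided power polynomial algebra over `k` in `r` variables, given by its basis of divided monomials. -/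
structure DP (k : Type u) [CommRing k] (r : ℕ) : Type (u + 1) where
  D : Type u
  [cr : CommRing D]
  [al : Algebra k D]
  X : Fin r → D
  γ : Module.Basis (Fin r →₀ ℕ) k D
  hγ : ∀ a : Fin r →₀ ℕ, ((fac a : ℕ) : D) * γ a = mon X a

attribute [instance] DP.cr DP.al

namespace DP

variable {k : Type u} [CommRing k] {r : ℕ} (P : DP k r)

instance : Module.Free k P.D := Module.Free.of_basis P.γ

include P in
theorem tf (hk : TF k) : TF P.D := TF.of_basis hk P.γ

theorem γ_zero : P.γ 0 = 1 := by
  have := P.hγ 0
  simpa using this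

theorem γ_single (j : Fin r) : P.γ (Finsupp.single j 1) = P.X j := by
  have := P.hγ (Finsupp.single j 1)
  rw [fac_single, mon_single] at this
  simpa using this

theorem γ_mul (a b : Fin r →₀ ℕ) :
    ((fac a * fac b : ℕ) : P.D) * (P.γ a * P.γ b) = ((fac (a + b) : ℕ) : P.D) * P.γ (a + b) := by
  rw [P.hγ, mon_add, ← P.hγ a, ← P.hγ b]
  push_cast
  ring

theorem isNat_X (i : Fin r) : IsNat (P.X i) := by
  intro n
  have := P.hγ (Finsupp.single i n)
  have h1 : fac (Finsupp.single i n) = n.factorial := by
    classical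
    unfold fac
    rw [Finset.prod_eq_single i]
    · simp
    · intro j _ hj
      rw [Finsupp.single_eq_of_ne hj]; rfl
    · simp
  have h2 : mon P.X (Finsupp.single i n) = P.X i ^ n := by
    classical
    unfold mon
    rw [Finset.prod_eq_single i]
    · simp
    · intro j _ hj
      rw [Finsupp.single_eq_of_ne hj, pow_zero]
    · simp
  rw [h1, h2] at this
  exact ⟨_, this.symm⟩

/-- universal property (existence) -/
theorem exists_hom {B : Type u} [CommRing B] [Algebra k B] (hB : TF B) (y : Fin r → B)
    (hy : ∀ i, IsNat (y i)) : ∃ h : P.D →ₐ[k] B, ∀ i, h (P.X i) = y i := by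
  choose c hc using fun a => fac_dvd_mon y hy a
  let h : P.D →ₗ[k] B := P.γ.constr k c
  have hh : ∀ a, h (P.γ a) = c a := fun a => P.γ.constr_basis k c a
  have h0 : c 0 = 1 := by
    have := hc 0
    simpa using this.symm
  have hmul : ∀ x z, h (x * z) = h x * h z := by
    have key : (LinearMap.mul k P.D).compr₂ h = (LinearMap.mul k B).compl₁₂ h h := by
      refine P.γ.ext fun a => P.γ.ext fun b => ?_
      change h (P.γ a * P.γ b) = h (P.γ a) * h (P.γ b)
      rw [hh, hh]
      refine hB.cancel (n := fac a * fac b) (mul_ne_zero (fac_ne_zero a) (fac_ne_zero b)) ?_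
      have e1 : ((fac a * fac b : ℕ) : B) * h (P.γ a * P.γ b) =
          h (((fac a * fac b : ℕ) : P.D) * (P.γ a * P.γ b)) := by
        rw [← nsmul_eq_mul, ← nsmul_eq_mul, map_nsmul]
      have e2 : h (((fac (a + b) : ℕ) : P.D) * P.γ (a + b)) = ((fac (a + b) : ℕ) : B) * c (a + b) := by
        rw [← nsmul_eq_mul, ← nsmul_eq_mul, map_nsmul, hh]
      rw [e1, P.γ_mul, e2, ← hc, mon_add, hc a, hc b]
      push_cast
      ring
    intro x z
    exact congrArg (fun f => f x z) key
  refine ⟨AlgHom.ofLinearMap h ?_ hmul, ?_⟩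
  · rw [← P.γ_zero, hh, h0]
  · intro i
    change h (P.X i) = y i
    rw [← P.γ_single, hh]
    have := hc (Finsupp.single i 1)
    rw [fac_single, mon_single] at this
    simpa using this.symm

/-- universal property (uniqueness), for ring homomorphisms into a torsion free ring -/
theorem hom_ext {B : Type u} [CommRing B] [Algebra k B] (hB : TF B) {f g : P.D →ₐ[k] B}
    (h : ∀ i, f (P.X i) = g (P.X i)) : f = g := by
  apply AlgHom.toLinearMap_injective
  refine P.γ.ext fun a => ?_
  refine hB.cancel (n := fac a) (fac_ne_zero a) ?_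
  have e1 : ∀ f : P.D →ₐ[k] B, ((fac a : ℕ) : B) * f (P.γ a) = mon (fun i => f (P.X i)) a := by
    intro f
    have := congrArg f (P.hγ a)
    rw [map_mul, map_natCast] at this
    rw [this]
    exact map_mon (f : P.D →+* B) P.X a
  change ((fac a : ℕ) : B) * f (P.γ a) = ((fac a : ℕ) : B) * g (P.γ a)
  rw [e1, e1]
  simp only [h]

end DP

end Groth.Agent.ResProp.EF.K902
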