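import Groth.Agent.ResProp.EF.K902.DP
import Mathlib.Data.Finsupp.Antidiagonal
import Mathlib.Algebra.BigOperators.NatAntidiagonal

/-!
# The bialgebra structure on a divided power polynomial algebra

`Δ X_i = X_i ⊗ 1 + 1 ⊗ X_i`, `Δ γ_a = ∑_{b+c=a} γ_b ⊗ γ_c`, `ε γ_a = δ_{a,0}`.
-/

set_option autoImplicit false

universe u

open TensorProduct

noncomputable section

namespace Groth.Agent.ResProp.EF.K902

open Grp

/-- antidiagonal of a multi-index -/
abbrev anti {r : ℕ} (a : Fin r →₀ ℕ) : Finset ((Fin r →₀ ℕ) × (Fin r →₀ ℕ)) := Finset.antidiagonal a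

namespace DP

variable {k : Type u} [CommRing k] {r : ℕ} (P : DP k r)

theorem tf_tensor (hk : TF k) {A B : Type u} [CommRing A] [Algebra k A] [CommRing B] [Algebra k B]
    [Module.Free k A] [Module.Free k B] : TF (A ⊗[k] B) :=
  TF.of_free hk _

theorem isNat_left {A B : Type u} [CommRing A] [Algebra k A] [CommRing B] [Algebra k B] {a : A}
    (ha : IsNat a) : IsNat (a ⊗ₜ[k] (1 : B)) :=
  isNat_map (Algebra.TensorProduct.includeLeft : A →ₐ[k] A ⊗[k] B).toRingHom ha

theorem isNat_right {A B : Type u} [CommRing A] [Algebra k A] [CommRing B] [Algebra k B] {b : B}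
    (hb : IsNat b) : IsNat ((1 : A) ⊗ₜ[k] b) :=
  isNat_map (Algebra.TensorProduct.includeRight : B →ₐ[k] A ⊗[k] B).toRingHom hb

/-- the comultiplication -/
def Δ (hk : TF k) : P.D →ₐ[k] P.D ⊗[k] P.D :=
  (P.exists_hom (tf_tensor hk) (fun i => P.X i ⊗ₜ[k] (1 : P.D) + (1 : P.D) ⊗ₜ[k] P.X i)
    fun i => isNat_add (isNat_left (P.isNat_X i)) (isNat_right (P.isNat_X i))).choose

@[simp] theorem Δ_X (hk : TF k) (i : Fin r) :
    P.Δ hk (P.X i) = P.X i ⊗ₜ[k] (1 : P.D) + (1 : P.D) ⊗ₜ[k] P.X i :=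
  (P.exists_hom (tf_tensor hk) (fun i => P.X i ⊗ₜ[k] (1 : P.D) + (1 : P.D) ⊗ₜ[k] P.X i)
    fun i => isNat_add (isNat_left (P.isNat_X i)) (isNat_right (P.isNat_X i))).choose_spec i

/-- the counit -/
def ε (hk : TF k) : P.D →ₐ[k] k :=
  (P.exists_hom (B := k) hk (fun _ => 0) fun _ => isNat_zero).choose

@[simp] theorem ε_X (hk : TF k) (i : Fin r) : P.ε hk (P.X i) = 0 :=
  (P.exists_hom (B := k) hk (fun _ => 0) fun _ => isNat_zero).choose_spec i

/-- the bialgebra structure -/
@[reducible] def bialg (hk : TF k) : Bialgebra k P.D :=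
  Bialgebra.ofAlgHom (P.Δ hk) (P.ε hk)
    (by
      refine P.hom_ext (tf_tensor hk) fun i => ?_
      simp [TensorProduct.add_tmul, TensorProduct.tmul_add, Algebra.TensorProduct.one_def]
      abel)
    (by
      refine P.hom_ext (TF.of_free hk _) fun i => ?_
      simp)
    (by
      refine P.hom_ext (TF.of_free hk _) fun i => ?_
      simp)

theorem sum_anti_left {M : Type*} [AddCommMonoid M] (a : Fin r →₀ ℕ) (i : Fin r)
    (f : (Fin r →₀ ℕ) → (Fin r →₀ ℕ) → M) :
    ∑ x ∈ anti a, (x.1 i + 1) • f (x.1 + Finsupp.single i 1) x.2 =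
      ∑ x ∈ anti (a + Finsupp.single i 1), (x.1 i) • f x.1 x.2 := by
  classical
  refine Finset.sum_of_injOn (fun x => (x.1 + Finsupp.single i 1, x.2)) ?_ ?_ ?_ ?_
  · rintro ⟨b, c⟩ _ ⟨b', c'⟩ _ h
    simp only [Prod.mk.injEq, add_left_inj] at h
    exact Prod.ext h.1 h.2
  · rintro ⟨b, c⟩ h
    simp only [Finset.mem_antidiagonal, Finset.mem_coe] at h ⊢
    rw [← h]
    abel
  · rintro ⟨b, c⟩ h hn
    have hb : b i = 0 := by
      by_contra hb
      refine hn ⟨(b - Finsupp.single i 1, c), ?_, ?_⟩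
      · simp only [Finset.mem_coe, Finset.mem_antidiagonal] at h ⊢
        ext j
        have hj := DFunLike.congr_fun h j
        simp only [Finsupp.add_apply, Finsupp.tsub_apply] at hj ⊢
        by_cases hij : j = i
        · subst hij
          simp only [Finsupp.single_eq_same] at hj ⊢
          omega
        · rw [Finsupp.single_eq_of_ne hij] at hj ⊢
          omega
      · refine Prod.ext ?_ rfl
        ext j
        simp only [Finsupp.add_apply, Finsupp.tsub_apply]
        by_cases hij : j = i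
        · subst hij
          simp only [Finsupp.single_eq_same]
          omega
        · rw [Finsupp.single_eq_of_ne hij]
          omega
    simp [hb]
  · rintro ⟨b, c⟩ _
    simp

theorem sum_anti_right {M : Type*} [AddCommMonoid M] (a : Fin r →₀ ℕ) (i : Fin r)
    (f : (Fin r →₀ ℕ) → (Fin r →₀ ℕ) → M) :
    ∑ x ∈ anti a, (x.2 i + 1) • f x.1 (x.2 + Finsupp.single i 1) =
      ∑ x ∈ anti (a + Finsupp.single i 1), (x.2 i) • f x.1 x.2 := by
  have h := sum_anti_left a i (fun b c => f c b)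
  have sw : ∀ (c : Fin r →₀ ℕ) (g : (Fin r →₀ ℕ) × (Fin r →₀ ℕ) → M),
      ∑ x ∈ anti c, g x = ∑ x ∈ anti c, g x.swap := by
    intro c g
    refine Finset.sum_nbij' Prod.swap Prod.swap ?_ ?_ ?_ ?_ ?_
    · intro x hx; simpa [add_comm] using hx
    · intro x hx; simpa [add_comm] using hx
    · intro x _; simp
    · intro x _; simp
    · intro x _; simp
  rw [sw, sw (a + Finsupp.single i 1)]
  exact h

theorem mon_eq_fac (a : Fin r →₀ ℕ) : mon P.X a = (fac a) • P.γ a := by
  rw [← P.hγ, nsmul_eq_mul]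

theorem ε_γ (hk : TF k) (a : Fin r →₀ ℕ) : P.ε hk (P.γ a) = if a = 0 then 1 else 0 := by
  split_ifs with h
  · subst h; rw [P.γ_zero, map_one]
  · refine TF.cancel hk (n := fac a) (fac_ne_zero a) ?_
    have := congrArg (P.ε hk) (P.hγ a)
    rw [map_mul, map_natCast] at this
    rw [this, mul_zero]
    have h2 : P.ε hk (mon P.X a) = mon (fun i => P.ε hk (P.X i)) a := map_mon (P.ε hk : P.D →+* k) P.X a
    rw [h2]
    obtain ⟨i, hi⟩ : ∃ i, a i ≠ 0 := by
      by_contra hc
      push Not at hc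
      exact h (Finsupp.ext hc)
    unfold mon
    refine Finset.prod_eq_zero (Finset.mem_univ i) ?_
    simp [zero_pow hi]

theorem fac_add_single (a : Fin r →₀ ℕ) (i : Fin r) :
    fac (a + Finsupp.single i 1) = (a i + 1) * fac a := by
  classical
  unfold fac
  rw [← Finset.mul_prod_erase Finset.univ (fun j => ((a + Finsupp.single i 1 : Fin r →₀ ℕ) j).factorial)
      (Finset.mem_univ i),
    ← Finset.mul_prod_erase Finset.univ (fun j => (a j).factorial) (Finset.mem_univ i)]
  have h1 : ∏ x ∈ Finset.univ.erase i, ((a + Finsupp.single i 1 : Fin r →₀ ℕ) x).factorial =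
      ∏ x ∈ Finset.univ.erase i, (a x).factorial := by
    refine Finset.prod_congr rfl fun x hx => ?_
    rw [Finsupp.add_apply, Finsupp.single_eq_of_ne (Finset.ne_of_mem_erase hx), add_zero]
  rw [h1, Finsupp.add_apply, Finsupp.single_eq_same, Nat.factorial_succ, mul_assoc]

/-- `X_i γ_a = (a_i + 1) γ_{a + e_i}` -/
theorem X_mul_γ (hk : TF k) (a : Fin r →₀ ℕ) (i : Fin r) :
    P.X i * P.γ a = ((a i + 1 : ℕ) : P.D) * P.γ (a + Finsupp.single i 1) := by
  refine (P.tf hk).cancel (n := fac a) (fac_ne_zero a) ?_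
  have h1 := P.hγ (a + Finsupp.single i 1)
  rw [fac_add_single, mon_add, mon_single, ← P.hγ a] at h1
  calc ((fac a : ℕ) : P.D) * (P.X i * P.γ a) = ((fac a : ℕ) : P.D) * P.γ a * P.X i := by ring
    _ = _ := h1.symm
    _ = _ := by push_cast; ring

/-- the coefficient of `γ_b ⊗ γ_c` in `Δ γ_a` -/
theorem comul_γ (hk : TF k) (a : Fin r →₀ ℕ) :
    P.Δ hk (P.γ a) = ∑ x ∈ anti a, P.γ x.1 ⊗ₜ[k] P.γ x.2 := by
  classical
  -- work with coordinates in the product basis
  let B := P.γ.tensorProduct P.γ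
  have hB : TF (P.D ⊗[k] P.D) := TF.of_free hk _
  induction h : (a.sum fun _ n => n) generalizing a with
  | zero =>
    have ha : a = 0 := by
      ext i
      by_contra hi
      have : a i ≤ a.sum fun _ n => n := by
        rw [Finsupp.sum]
        exact Finset.single_le_sum (f := fun j => a j) (fun _ _ => Nat.zero_le _)
          (Finsupp.mem_support_iff.2 hi)
      rw [h] at this
      exact hi (Nat.le_zero.1 this)
    subst ha
    simp [P.γ_zero, Algebra.TensorProduct.one_def]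
  | succ n ih =>
    obtain ⟨i, hi⟩ : ∃ i, a i ≠ 0 := by
      by_contra hc
      push Not at hc
      have : a = 0 := Finsupp.ext hc
      subst this
      simp at h
    obtain ⟨a', rfl⟩ : ∃ a', a = a' + Finsupp.single i 1 := by
      refine ⟨a - Finsupp.single i 1, ?_⟩
      ext j
      by_cases hj : i = j
      · subst hj; simp; omega
      · simp [hj]
    have hs : (a'.sum fun _ n => n) = n := by
      rw [Finsupp.sum_add_index' (fun _ => rfl) (fun _ _ _ => rfl)] at h
      simpa using h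
    have ih' := ih a' hs
    refine hB.cancel (n := a' i + 1) (Nat.succ_ne_zero _) ?_
    have e1 : ((a' i + 1 : ℕ) : P.D ⊗[k] P.D) * P.Δ hk (P.γ (a' + Finsupp.single i 1)) =
        P.Δ hk (P.X i) * P.Δ hk (P.γ a') := by
      rw [← map_mul, P.X_mul_γ hk, map_mul, map_natCast]
    rw [e1, ih', P.Δ_X, add_mul, Finset.mul_sum, Finset.mul_sum, Finset.mul_sum]
    have e2 : ∀ x ∈ anti a', (P.X i ⊗ₜ[k] (1 : P.D)) * (P.γ x.1 ⊗ₜ[k] P.γ x.2) =
        (x.1 i + 1) • (P.γ (x.1 + Finsupp.single i 1) ⊗ₜ[k] P.γ x.2) := by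
      intro x _
      rw [Algebra.TensorProduct.tmul_mul_tmul, one_mul, P.X_mul_γ hk, ← nsmul_eq_mul,
        TensorProduct.smul_tmul']
    have e3 : ∀ x ∈ anti a', ((1 : P.D) ⊗ₜ[k] P.X i) * (P.γ x.1 ⊗ₜ[k] P.γ x.2) =
        (x.2 i + 1) • (P.γ x.1 ⊗ₜ[k] P.γ (x.2 + Finsupp.single i 1)) := by
      intro x _
      rw [Algebra.TensorProduct.tmul_mul_tmul, one_mul, P.X_mul_γ hk, ← nsmul_eq_mul,
        TensorProduct.tmul_smul]
    rw [Finset.sum_congr rfl e2, Finset.sum_congr rfl e3,
      sum_anti_left a' i (fun b c => P.γ b ⊗ₜ[k] P.γ c), sum_anti_right a' i (fun b c => P.γ b ⊗ₜ[k] P.γ c),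
      ← Finset.sum_add_distrib]
    refine Finset.sum_congr rfl fun x hx => ?_
    rw [← add_smul, ← nsmul_eq_mul]
    congr 1
    have := DFunLike.congr_fun (Finset.mem_antidiagonal.1 hx) i
    simpa using this

end DP

end Groth.Agent.ResProp.EF.K902
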